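import Mathlib.RingTheory.Flat.Basic
import Mathlib.RingTheory.IsTensorProduct
import Mathlib.LinearAlgebra.TensorProduct.Pi

/-! # Invariants of a finite family of linear maps commute with flat base change -/

universe u

open TensorProduct

namespace Groth.L28.QuotBC

variable {R S A B : Type u} [CommRing R] [CommRing S] [CommRing A] [CommRing B]
  [Algebra R S] [Algebra R A] [Algebra R B] [Algebra S B] [Algebra A B]
  [IsScalarTower R S B] [IsScalarTower R A B] [Algebra.IsPushout R S A B] [Module.Flat R S]
  {ι : Type*} [Finite ι] (σ : ι → A →+* A) (τ : ι → B →+* B)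

/-- If `R` is the ring of common fixed points of `σ` in `A` then `S` is that of `τ` in `B`. -/
theorem fixed_baseChange (hσ : ∀ i (r : R), σ i (algebraMap R A r) = algebraMap R A r)
    (hτ : ∀ i (s : S), τ i (algebraMap S B s) = algebraMap S B s)
    (hc : ∀ i (a : A), τ i (algebraMap A B a) = algebraMap A B (σ i a))
    (hinj : Function.Injective (algebraMap R A))
    (hfix : ∀ a, (∀ i, σ i a = a) → a ∈ Set.range (algebraMap R A)) :
    Function.Injective (algebraMap S B) ∧
      ∀ b, (∀ i, τ i b = b) → b ∈ Set.range (algebraMap S B) := by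
  classical
  have := Fintype.ofFinite ι
  let f : R →ₗ[R] A := Algebra.linearMap R A
  let e := Algebra.IsPushout.equiv R S A B
  let D : ι → A →ₗ[R] A := fun i =>
    ({ σ i with commutes' := hσ i } : A →ₐ[R] A).toLinearMap - LinearMap.id
  let d : A →ₗ[R] (ι → A) := LinearMap.pi D
  have hex : Function.Exact f d := fun a => by
    constructor
    · exact fun h => hfix a fun i => sub_eq_zero.1 (congrFun h i)
    · rintro ⟨r, rfl⟩
      exact funext fun i => sub_eq_zero.2 (hσ i r)
  have he : ∀ s : S, algebraMap S B s = e (f.lTensor S (s ⊗ₜ[R] (1 : R))) := fun s => by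
    simp [e, f, Algebra.IsPushout.equiv_tmul]
  have hs : ∀ z : S ⊗[R] R, ∃ s : S, z = s ⊗ₜ[R] (1 : R) := fun z =>
    ⟨TensorProduct.rid R S z, ((TensorProduct.rid R S).symm_apply_apply z).symm⟩
  refine ⟨fun s t h => ?_, fun b hb => ?_⟩
  · rw [he, he] at h
    simpa using congrArg (TensorProduct.rid R S)
      (Module.Flat.lTensor_preserves_injective_linearMap (M := S) f hinj (e.injective h))
  · obtain ⟨z, rfl⟩ := e.surjective b
    have hD : ∀ i (w : S ⊗[R] A), e ((D i).lTensor S w) = τ i (e w) - e w := fun i w => by
      induction w using TensorProduct.induction_on with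
      | zero => simp
      | tmul s a =>
        simp [D, e, Algebra.IsPushout.equiv_tmul, map_mul, hτ, hc]
      | add x y hx hy => simp only [map_add, hx, hy]; ring
    have hz : d.lTensor S z = 0 := by
      apply (TensorProduct.piRight R R S fun _ : ι => A).injective
      rw [map_zero]
      funext i
      have : ∀ w : S ⊗[R] A, TensorProduct.piRight R R S (fun _ : ι => A) (d.lTensor S w) i = (D i).lTensor S w :=
        fun w => by
          induction w using TensorProduct.induction_on with
          | zero => simp
          | tmul s a => simp [d]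
          | add x y hx hy => simp only [map_add, Pi.add_apply, hx, hy]
      rw [this z, Pi.zero_apply]
      exact e.injective (by rw [hD, hb i, sub_self, map_zero])
    obtain ⟨w, rfl⟩ := ((Module.Flat.lTensor_exact S hex) z).1 hz
    obtain ⟨s, rfl⟩ := hs w
    exact ⟨s, he s⟩

end Groth.L28.QuotBC
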